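import Groth.Agent.ASp.EffCartier
import Groth.Agent.ASp.ClosedFP
import Groth.Agent.ASp.Affine
import Groth.Agent.ASp.Diag
import Groth.Prelude.Def_W4stk3spdivBlowUp
import Groth.Agent.BlowExistsLib.Proper
/-!
The blow-up of an algebraic space, restricted to an affine etale chart, is the blow-up of the chart.
-/

set_option autoImplicit false
set_option backward.isDefEq.respectTransparency false
set_option backward.isDefEq.respectTransparency.types false

universe u

open CategoryTheory CategoryTheory.Limits AlgebraicGeometry Opposite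

namespace Groth.Agent.AlgSpBlow

open _root_.AlgSp Groth.Agent.ASp

variable {S : Scheme.{u}} {X X' Z : AlgSp.Space S}

theorem isFiniteTypeIdeal_of_chart {i : Z ⟶ X}
    (hi : AlgSp.RepWith (@IsClosedImmersion ⊓ @LocallyOfFinitePresentation) i.hom) {A : Over S} [IsAffine A.left]
    {g : (yon S).obj A ⟶ X.obj} {I : A.left.IdealSheafData} (hI : IsSubIdeal i.hom g I) :
    BlowUp.IsFiniteTypeIdeal I := by
  obtain ⟨a, sq⟩ := hI
  haveI : LocallyOfFinitePresentation I.subschemeι := (hi.2 g a _ sq).2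
  have h := (lfp_iff_fg_of_isClosedImmersion I.subschemeι).1 inferInstance
  have htop : (I.ideal ⟨⊤, isAffineOpen_top A.left⟩).FG := by
    rw [← show I.subschemeι.ker.ideal ⟨⊤, isAffineOpen_top A.left⟩ = RingHom.ker I.subschemeι.appTop.hom from
      Scheme.Hom.ker_apply _ _, I.ker_subschemeι] at h
    exact h
  intro U
  rw [← I.map_ideal (U := U) (V := ⟨⊤, isAffineOpen_top A.left⟩) (show U.1 ≤ ⊤ from le_top)]
  exact htop.map _

theorem invImage_of_scheme {i : Z ⟶ X} (hi : AlgSp.RepWith @IsClosedImmersion i.hom) {A : Over S}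
    {g : (yon S).obj A ⟶ X.obj} {I : A.left.IdealSheafData} (hI : IsSubIdeal i.hom g I) {B : Over S} (β : B ⟶ A)
    (hC : BlowUp.IsEffCartierIdeal (I.comap β.left)) :
    InvImageIsEffCartier i.hom ((yon S).map β ≫ g) := by
  obtain ⟨K, hK⟩ := exists_isSubIdeal hi ((yon S).map β ≫ g)
  have hKI : I.comap β.left = K := IsSubIdeal.comap_eq β rfl hI hK
  obtain ⟨a, sq⟩ := id hK
  refine ⟨_, a, _, sq, isEffCartierSub_of_charts (IsAlgSpace.yon_obj B) (repWith_of_isPullback sq hi) ?_⟩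
  intro U φ hφ J hJ
  obtain ⟨w, rfl⟩ := (yon S).map_surjective φ
  obtain ⟨fJ, sqJ⟩ := hJ
  haveI : Etale w.left := (repWith_yon_map_iff (P := @Etale) _).1 hφ
  rw [← IsSubIdeal.comap_eq w (φ' := (yon S).map w ≫ (yon S).map β ≫ g) rfl hK
    ⟨fJ ≫ a, sqJ.paste_horiz sq⟩, ← hKI]
  exact BlowCompLib.isEffCartier_comap_flat hC w.left

theorem exists_unique_to_blowUp {i : Z ⟶ X} {A B : Over S} {g : (yon S).obj A ⟶ X.obj}
    {I : A.left.IdealSheafData} (hI : IsSubIdeal i.hom g I) {β : B ⟶ A} (hb : BlowUp.IsBlowUp β.left I)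
    {W : Over S} (w : W ⟶ A) {J : W.left.IdealSheafData} (hJ : IsSubIdeal i.hom ((yon S).map w ≫ g) J)
    (hC : BlowUp.IsEffCartierIdeal J) : ∃! m : W ⟶ B, m ≫ β = w := by
  obtain ⟨m, hm, hu⟩ := hb.2 W.left w.left (by rw [IsSubIdeal.comap_eq w rfl hI hJ]; exact hC)
  refine ⟨Over.homMk m (by rw [← Over.w β, reassoc_of% hm, Over.w]), Over.OverMorphism.ext hm, fun m' hm' => ?_⟩
  exact Over.OverMorphism.ext (hu m'.left (congrArg (fun q => q.left) hm'))

theorem exists_iso_chart {i : Z ⟶ X} (hi : AlgSp.RepWith @IsClosedImmersion i.hom) {b : X' ⟶ X}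
    (hb : AlgSp.IsBlowUpSp b.hom i.hom) {A : Over S} {g : (yon S).obj A ⟶ X.obj} (hg : RepWith @Etale g)
    {P : AlgSp.Sp S} {fst : P ⟶ X'.obj} {snd : P ⟶ (yon S).obj A} (sq : IsPullback fst snd b.hom g)
    {I : A.left.IdealSheafData} (hI : IsSubIdeal i.hom g I) {B : Over S} {β : B ⟶ A}
    (hbB : BlowUp.IsBlowUp β.left I) : ∃ θ : (yon S).obj B ≅ P, θ.hom ≫ snd = (yon S).map β := by
  have hP : IsAlgSpace P := isAlgSpace_of_isPullback X.property.diag X'.property (IsAlgSpace.yon_obj A) sq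
  -- the map from the blow-up of the chart
  obtain ⟨u, hu, huu⟩ := hb.2 (IsAlgSpace.yon_obj B) ((yon S).map β ≫ g) (invImage_of_scheme hi hI β hbB.1)
  obtain ⟨θ, hθ1, hθ2⟩ : ∃ θ : (yon S).obj B ⟶ P, θ ≫ fst = u ∧ θ ≫ snd = (yon S).map β :=
    ⟨sq.lift u ((yon S).map β) hu, sq.lift_fst _ _ _, sq.lift_snd _ _ _⟩
  -- the inverse image of Z in P is an effective Cartier divisor
  obtain ⟨D, d₁, d₂, sqD, hD⟩ := hb.1
  have hfst : RepWith @Etale fst := repWith_of_isPullback sq.flip hg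
  have hfl : LocP @Flat fst :=
    locP_of_repWith (repWith_mono (fun _ _ q (hq : Etale q) => inferInstanceAs (Flat q)) hfst)
  have sqD' := IsPullback.of_hasPullback d₂ fst
  have hDP : IsEffCartierSub (pullback.snd d₂ fst) := isEffCartierSub_pullback_flat hP X'.property fst hfl hD sqD'
  have hPg : IsPullback (pullback.fst d₂ fst ≫ d₁) (pullback.snd d₂ fst) i.hom (fst ≫ b.hom) :=
    sqD'.paste_horiz sqD
  obtain ⟨W, a, hae, has⟩ := hP.atlas
  obtain ⟨w, hw⟩ := (yon S).map_surjective (a ≫ snd)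
  have hchart : ∀ {U : Over S} (φ : (yon S).obj U ⟶ P) (v : U ⟶ A), RepWith @Etale φ →
      (yon S).map v = φ ≫ snd → ∃! m : U ⟶ B, m ≫ β = v := by
    intro U φ v hφ hv
    obtain ⟨J, hJ⟩ := exists_isSubIdeal (repWith_of_isPullback hPg hi) φ
    refine exists_unique_to_blowUp hI hbB v (J := J) ?_ (isEffCartier_of_chart hDP hφ hJ)
    obtain ⟨fJ, sqJ⟩ := hJ
    refine ⟨fJ ≫ pullback.fst d₂ fst ≫ d₁, ?_⟩
    rw [hv, Category.assoc, ← sq.w]
    exact sqJ.paste_horiz hPg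
  obtain ⟨m, hm, -⟩ := hchart a w hae hw
  -- the two composites on the overlap agree
  obtain ⟨R, r₁, r₂, sqR⟩ : ∃ (R : Over S) (r₁ : (yon S).obj R ⟶ (yon S).obj W) (r₂ : R ⟶ W),
      IsPullback r₁ ((yon S).map r₂) a a := ⟨_, _, _, hae.1.isPullback a⟩
  obtain ⟨r₁, rfl⟩ := (yon S).map_surjective r₁
  have hr : RepWith @Etale ((yon S).map r₂ ≫ a) := repWith_comp (repWith_of_isPullback sqR hae) hae
  obtain ⟨n, -, hn⟩ := hchart ((yon S).map r₂ ≫ a) (r₂ ≫ w) hr (by rw [Functor.map_comp, hw, Category.assoc])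
  have e : (yon S).map r₁ ≫ (yon S).map m = (yon S).map r₂ ≫ (yon S).map m := by
    rw [← Functor.map_comp, ← Functor.map_comp]
    congr 1
    have h1 : r₁ ≫ w = r₂ ≫ w := (yon S).map_injective (by
      rw [Functor.map_comp, Functor.map_comp, hw, reassoc_of% sqR.w])
    exact (hn _ (show (r₁ ≫ m) ≫ β = r₂ ≫ w by rw [Category.assoc, hm, h1])).trans
      (hn _ (show (r₂ ≫ m) ≫ β = r₂ ≫ w by rw [Category.assoc, hm])).symm
  haveI : Sheaf.IsLocallySurjective a := isLocallySurjective_of_repWith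
    (repWith_mono (fun _ _ q (hq : Etale q) => inferInstanceAs (Flat q)) hae)
    (repWith_mono (fun _ _ q (hq : Etale q) => inferInstanceAs (LocallyOfFinitePresentation q)) hae) has
  haveI : Epi a := Sheaf.epi_of_isLocallySurjective a
  obtain ⟨ψ, hψ⟩ := exists_desc_of_epi a sqR ((yon S).map m) e
  have hψ2 : ψ ≫ (yon S).map β = snd := by
    rw [← cancel_epi a, reassoc_of% hψ, ← Functor.map_comp, hm, hw]
  have h1 : θ ≫ ψ = 𝟙 _ := by
    obtain ⟨q, hq⟩ := (yon S).map_surjective (θ ≫ ψ)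
    have hqβ : q ≫ β = β := (yon S).map_injective (by rw [Functor.map_comp, hq, Category.assoc, hψ2, hθ2])
    obtain ⟨n, -, hn⟩ := hbB.2 B.left β.left hbB.1
    have hq1 : q = 𝟙 B := Over.OverMorphism.ext ((hn q.left (congrArg (fun q => q.left) hqβ)).trans
      (hn (𝟙 B.left) (Category.id_comp _)).symm)
    rw [← hq, hq1, CategoryTheory.Functor.map_id]
  have h2 : ψ ≫ θ = 𝟙 _ := by
    refine sq.hom_ext ?_ ?_
    · obtain ⟨n, -, hn⟩ := hb.2 hP (fst ≫ b.hom) ⟨_, _, _, hPg, hDP⟩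
      rw [Category.id_comp]
      refine (hn _ ?_).trans (hn _ rfl).symm
      show ((ψ ≫ θ) ≫ fst) ≫ b.hom = fst ≫ b.hom
      rw [Category.assoc, Category.assoc, reassoc_of% hθ1, hu, ← Category.assoc ψ, hψ2, sq.w]
    · rw [Category.assoc, hθ2, hψ2, Category.id_comp]
  exact ⟨⟨θ, ψ, h1, h2⟩, hθ2⟩

end Groth.Agent.AlgSpBlow
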